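import Groth.Prelude.Def_W4c5nonratstablectREq
import Groth.Agent.Lib.ProjSp.Coords
import Groth.Agent.Lib.ProjSp.Segre
import Mathlib.Algebra.Polynomial.Eval.Defs
import Mathlib.AlgebraicGeometry.GammaSpecAdjunction

/-!
# Direct R-links along lines
-/

set_option autoImplicit false
set_option maxHeartbeats 400000
set_option linter.style.haveILetI false
set_option backward.isDefEq.respectTransparency false

universe u

open AlgebraicGeometry CategoryTheory CategoryTheory.Limits HomogeneousLocalization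
open GrothLib.ProjSpCoord GrothLib.ProjPt

namespace GrothLib.RLink26

variable {n : ℕ} {S S' : Type u} [CommRing S] [CommRing S']

set_option quotPrecheck false in
local notation "𝒜" => CohB1.polyGrading n RZ

/-- The point of projective space in the chart of a linear form given by an evaluation. -/
noncomputable def ptS (f : MvPolynomial (Fin (n + 1)) RZ.{u} →+* S) (x : MvPolynomial (Fin (n + 1)) RZ.{u})
    (hxd : x ∈ 𝒜 1) (hx : IsUnit (f x)) : Spec (CommRingCat.of S) ⟶ CohB1.ProjSpace n RZ.{u} :=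
  Spec.map (CommRingCat.ofHom (evalAway 𝒜 f x hx)) ≫ Proj.awayι 𝒜 x hxd one_pos

theorem specMap_ptS (h : S →+* S') (f : MvPolynomial (Fin (n + 1)) RZ.{u} →+* S)
    (x : MvPolynomial (Fin (n + 1)) RZ.{u}) (hxd : x ∈ 𝒜 1) (hx : IsUnit (f x))
    (f' : MvPolynomial (Fin (n + 1)) RZ.{u} →+* S') (hf' : h.comp f = f') (hx' : IsUnit (f' x)) :
    Spec.map (CommRingCat.ofHom h) ≫ ptS f x hxd hx = ptS f' x hxd hx' := by
  subst hf'
  rw [ptS, ptS, ← Category.assoc, ← Spec.map_comp, ← CommRingCat.ofHom_comp, comp_evalAway 𝒜 h f hxd hx]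

theorem ptS_change (f : MvPolynomial (Fin (n + 1)) RZ.{u} →+* S) {x y : MvPolynomial (Fin (n + 1)) RZ.{u}}
    (hxd : x ∈ 𝒜 1) (hyd : y ∈ 𝒜 1) (hx : IsUnit (f x)) (hy : IsUnit (f y)) :
    ptS f x hxd hx = ptS f y hyd hy := by
  have hu : IsUnit (f (x * y)) := by rw [map_mul]; exact hx.mul hy
  rw [ptS, ptS, ← evalAway_comp_awayMap 𝒜 f hyd rfl hxd hu hx, CommRingCat.ofHom_comp, Spec.map_comp,
    Category.assoc, Proj.SpecMap_awayMap_awayι,
    ← evalAway_comp_awayMap 𝒜 f hxd (mul_comm x y) hyd hu hy, CommRingCat.ofHom_comp, Spec.map_comp,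
    Category.assoc, Proj.SpecMap_awayMap_awayι]

theorem comp_evalTuple (h : S →+* S') (r : Fin (n + 1) → S) :
    h.comp (evalTuple r) = evalTuple fun k => h (r k) :=
  MvPolynomial.ringHom_ext (fun c => RingHom.congr_fun (ringHom_RZ_ext ((h.comp (evalTuple r)).comp MvPolynomial.C)
    ((evalTuple fun k => h (r k)).comp MvPolynomial.C)) c) fun k => by simp

theorem ptS_smul (r : Fin (n + 1) → S) (c : S) {x : MvPolynomial (Fin (n + 1)) RZ.{u}} (hxd : x ∈ 𝒜 1)
    (hx : IsUnit (evalTuple r x)) (hx' : IsUnit (evalTuple (fun k => c * r k) x)) :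
    ptS (evalTuple fun k => c * r k) x hxd hx' = ptS (evalTuple r) x hxd hx := by
  rw [ptS, ptS, evalAway_eq_of_twist 𝒜 (evalTuple r) (evalTuple fun k => c * r k) hxd hx hx' c
    (map_eq_pow_mul _ _ c fun k => by simp)]

/-- A point with values in a field lies in a standard chart. -/
theorem exists_ptS {K : Type u} [Field K] (p : Spec (CommRingCat.of K) ⟶ CohB1.ProjSpace n RZ.{u}) :
    ∃ (i : Fin (n + 1)) (r : Fin (n + 1) → K) (hr : r i = 1),
      p = ptS (evalTuple r) (MvPolynomial.X i) (X_mem_one i) (by rw [evalTuple_X, hr]; exact isUnit_one) := by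
  obtain ⟨i, hi⟩ := TopologicalSpace.Opens.mem_iSup.mp
    ((GrothLib.ProjSpSegre.iSup_basicOpen_X.{u} n).ge (Set.mem_univ (p (IsLocalRing.closedPoint K))))
  let ι := Proj.awayι 𝒜 (MvPolynomial.X i) (X_mem_one i) one_pos
  have hrange : Set.range p.base ⊆ Set.range ι.base := by
    rintro _ ⟨y, rfl⟩
    have hy : y = IsLocalRing.closedPoint K := Subsingleton.elim _ _
    subst hy
    rw [← Proj.opensRange_awayι 𝒜 (MvPolynomial.X i) (X_mem_one i) one_pos] at hi
    exact hi
  obtain ⟨g, hg⟩ : ∃ g, Spec.map g = IsOpenImmersion.lift ι p hrange := ⟨_, Spec.map_preimage _⟩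
  refine ⟨i, fun k => g.hom (ratio i k), ratio_self_map g.hom, ?_⟩
  rw [ptS, ← eq_evalAway g.hom, CommRingCat.ofHom_hom, hg, IsOpenImmersion.lift_fac]

theorem specMap_comp_specMap {R S T : Type u} [CommRing R] [CommRing S] [CommRing T] (f : R →+* S) (g : S →+* T) :
    Spec.map (CommRingCat.ofHom g) ≫ Spec.map (CommRingCat.ofHom f) = Spec.map (CommRingCat.ofHom (g.comp f)) :=
  (Spec.map_comp (CommRingCat.ofHom f) (CommRingCat.ofHom g)).symm

variable {k : Type u} [Field k] {K : Type u} [Field K]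

/-- The chart `X₀ ≠ 0` of the projective line over `K`. -/
noncomputable abbrev lineU (K : Type u) [Field K] : (REq.P1K K).Opens :=
  (pullback.fst _ _ : REq.P1K K ⟶ CohB1.ProjSpace 1 RZ.{u}) ⁻¹ᵁ
    Proj.basicOpen (CohB1.polyGrading 1 RZ.{u}) (MvPolynomial.X 0)

theorem eq_toSpecΓ_comp {T : Scheme.{u}} {R : CommRingCat.{u}} (v : T ⟶ Spec R) :
    v = T.toSpecΓ ≫ Spec.map ((Scheme.ΓSpecIso R).inv ≫ v.appTop) :=
  ext_to_Spec (by simp)

/-- The chart of the projective line maps to the affine line, hitting every rational value. -/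
theorem exists_line (K : Type u) [Field K] :
    ∃ φ : (lineU K : Scheme.{u}) ⟶ Spec (CommRingCat.of (Polynomial K)),
      φ ≫ Spec.map (CommRingCat.ofHom (Polynomial.C (R := K))) = (lineU K).ι ≫ REq.P1K.toSpec K ∧
      ∀ c : K, ∃ p : Spec (CommRingCat.of K) ⟶ (lineU K : Scheme.{u}),
        p ≫ (lineU K).ι ≫ REq.P1K.toSpec K = 𝟙 _ ∧
        p ≫ φ = Spec.map (CommRingCat.ofHom (Polynomial.evalRingHom c)) := by
  let 𝒜₁ := CohB1.polyGrading 1 RZ.{u}
  let x : MvPolynomial (Fin (1 + 1)) RZ.{u} := MvPolynomial.X 0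
  let ι := Proj.awayι 𝒜₁ x (X_mem_one 0) one_pos
  let pr : REq.P1K K ⟶ CohB1.ProjSpace 1 RZ.{u} := pullback.fst _ _
  have hrange : Set.range ((lineU K).ι ≫ pr).base ⊆ Set.range ι.base := by
    rintro _ ⟨y, rfl⟩
    have hy : pr ((lineU K).ι y) ∈ Proj.basicOpen 𝒜₁ x := y.2
    rw [← Proj.opensRange_awayι 𝒜₁ x (X_mem_one 0) one_pos] at hy
    exact hy
  let w := IsOpenImmersion.lift ι ((lineU K).ι ≫ pr) hrange
  let v := (lineU K).ι ≫ REq.P1K.toSpec K
  let rK := ((Scheme.ΓSpecIso (CommRingCat.of K)).inv ≫ v.appTop).hom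
  let rA := ((Scheme.ΓSpecIso (CommRingCat.of (Away 𝒜₁ x))).inv ≫ w.appTop).hom
  let e := Polynomial.eval₂RingHom rK (rA (ratio 0 1))
  let φ := (lineU K : Scheme.{u}).toSpecΓ ≫ Spec.map (CommRingCat.ofHom e)
  have h1 : φ ≫ Spec.map (CommRingCat.ofHom (Polynomial.C (R := K))) = v := by
    rw [show φ = _ from rfl, Category.assoc, specMap_comp_specMap,
      show e.comp Polynomial.C = rK from RingHom.ext fun a => Polynomial.eval₂_C _ _, CommRingCat.ofHom_hom]
    exact (eq_toSpecΓ_comp v).symm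
  let tA : Polynomial RZ.{u} →+* Away 𝒜₁ x := Polynomial.eval₂RingHom fromRZ (ratio 0 1)
  let ρ : Polynomial RZ.{u} →+* Polynomial K := Polynomial.mapRingHom fromRZ
  have h2 : φ ≫ Spec.map (CommRingCat.ofHom ρ) = w ≫ Spec.map (CommRingCat.ofHom tA) := by
    have h3 : e.comp ρ = rA.comp tA := by
      refine Polynomial.ringHom_ext' (ringHom_RZ_ext _ _) ?_
      simp [e, ρ, tA]
    rw [show φ = _ from rfl, Category.assoc, specMap_comp_specMap, h3]
    conv_rhs => rw [eq_toSpecΓ_comp w]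
    rw [Category.assoc, ← Spec.map_comp, CommRingCat.ofHom_comp]
    rfl
  refine ⟨φ, h1, fun c => ?_⟩
  let r : Fin (1 + 1) → K := ![1, c]
  have hx : IsUnit (evalTuple r x) := by simp [x, r]
  let q := ptS (evalTuple r) x (X_mem_one 0) hx
  let P : Spec (CommRingCat.of K) ⟶ REq.P1K K := pullback.lift q (𝟙 _) (specULiftZIsTerminal.hom_ext _ _)
  have hP : Set.range P.base ⊆ Set.range (lineU K).ι.base := by
    rintro _ ⟨y, rfl⟩
    rw [Scheme.Opens.range_ι]
    show pr (P y) ∈ Proj.basicOpen 𝒜₁ x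
    rw [← Scheme.Hom.comp_apply, show P ≫ pr = q from pullback.lift_fst _ _ _,
      ← Proj.opensRange_awayι 𝒜₁ x (X_mem_one 0) one_pos]
    exact ⟨_, rfl⟩
  let p := IsOpenImmersion.lift (lineU K).ι P hP
  have hp : p ≫ (lineU K).ι = P := IsOpenImmersion.lift_fac _ _ _
  have hpv : p ≫ v = 𝟙 _ := by
    rw [show v = _ from rfl, reassoc_of% hp]
    exact pullback.lift_snd _ _ _
  refine ⟨p, hpv, ?_⟩
  have hpw : p ≫ w = Spec.map (CommRingCat.ofHom (evalAway 𝒜₁ (evalTuple r) x hx)) := by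
    rw [← cancel_mono ι, Category.assoc, IsOpenImmersion.lift_fac, reassoc_of% hp]
    exact pullback.lift_fst _ _ _
  obtain ⟨g, hg⟩ : ∃ g, Spec.map g = p ≫ φ := ⟨_, Spec.map_preimage _⟩
  have hgC : g.hom.comp Polynomial.C = RingHom.id K := by
    have h := congrArg (p ≫ ·) h1
    simp only [← Category.assoc, ← hg, hpv, ← Spec.map_comp] at h
    exact congrArg CommRingCat.Hom.hom (Spec.map_injective (h.trans (Spec.map_id _).symm))
  have hgX : g.hom Polynomial.X = c := by
    have h := congrArg (p ≫ ·) h2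
    simp only [← Category.assoc, ← hg, hpw, ← Spec.map_comp] at h
    have h' := congrArg (fun m => m.hom Polynomial.X) (Spec.map_injective h)
    simp only [CommRingCat.hom_comp, CommRingCat.hom_ofHom, RingHom.comp_apply, ρ, tA,
      Polynomial.coe_mapRingHom, Polynomial.map_X, Polynomial.coe_eval₂RingHom, Polynomial.eval₂_X] at h'
    rw [h']
    have h4 := evalAway_ratio (evalTuple r) 0 1 hx
    simpa [r, x] using h4
  rw [← hg]
  congr 1
  refine CommRingCat.hom_ext (Polynomial.ringHom_ext (fun a => ?_) ?_)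
  · exact (RingHom.congr_fun hgC a).trans (Polynomial.eval_C).symm
  · exact hgX.trans Polynomial.eval_X.symm

variable [Algebra k K]

/-- Two points on an affine line lying in an open subscheme are directly linked there. -/
theorem elemLink_of_line {P : Scheme.{u}} (p : P ⟶ Spec (CommRingCat.of k)) (V : P.Opens)
    (L : Spec (CommRingCat.of (Polynomial K)) ⟶ P)
    (hL : L ≫ p = Spec.map (CommRingCat.ofHom (Polynomial.C.comp (algebraMap k K))))
    (A B : REq.Pts (V.ι ≫ p) K)
    (hA : Spec.map (CommRingCat.ofHom (Polynomial.evalRingHom (0 : K))) ≫ L = A.1 ≫ V.ι)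
    (hB : Spec.map (CommRingCat.ofHom (Polynomial.evalRingHom (1 : K))) ≫ L = B.1 ≫ V.ι) :
    REq.ElemLink (V.ι ≫ p) K A B := by
  obtain ⟨φ, hφ, hpts⟩ := exists_line K
  obtain ⟨a, ha, haφ⟩ := hpts 0
  obtain ⟨b, hb, hbφ⟩ := hpts 1
  let U' : (REq.P1K K).Opens := (lineU K).ι ''ᵁ ((φ ≫ L) ⁻¹ᵁ V)
  have hle : U' ≤ lineU K := Scheme.Opens.ι_image_le _ _
  let incl := (REq.P1K K).homOfLE hle
  have hincl : incl ≫ (lineU K).ι = U'.ι := Scheme.homOfLE_ι _ _
  have hh : Set.range (incl ≫ φ ≫ L).base ⊆ Set.range V.ι.base := by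
    rintro _ ⟨y, rfl⟩
    rw [Scheme.Opens.range_ι]
    obtain ⟨z, hz, hzy⟩ := y.2
    have : incl y = z := by
      apply (lineU K).ι.isOpenEmbedding.injective
      rw [← Scheme.Hom.comp_apply, hincl]
      exact hzy.symm
    rw [Scheme.Hom.comp_apply, this]
    exact hz
  let h := IsOpenImmersion.lift V.ι _ hh
  have hpt : ∀ (a : Spec (CommRingCat.of K) ⟶ (lineU K : Scheme.{u})) (C : Spec (CommRingCat.of K) ⟶ (V : Scheme.{u})),
      a ≫ φ ≫ L = C ≫ V.ι → Set.range (a ≫ (lineU K).ι).base ⊆ Set.range U'.ι.base := by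
    intro a C haC
    rintro _ ⟨y, rfl⟩
    rw [Scheme.Opens.range_ι]
    refine ⟨a y, ?_, (Scheme.Hom.comp_apply _ _ _).symm⟩
    show (φ ≫ L) (a y) ∈ V
    rw [← Scheme.Hom.comp_apply, haC]
    exact (C y).2
  have haC : a ≫ φ ≫ L = A.1 ≫ V.ι := by rw [reassoc_of% haφ, hA]
  have hbC : b ≫ φ ≫ L = B.1 ≫ V.ι := by rw [reassoc_of% hbφ, hB]
  let a' := IsOpenImmersion.lift U'.ι _ (hpt a _ haC)
  let b' := IsOpenImmersion.lift U'.ι _ (hpt b _ hbC)
  have ha' : a' ≫ incl = a := by
    rw [← cancel_mono (lineU K).ι, Category.assoc, hincl, IsOpenImmersion.lift_fac]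
  have hb' : b' ≫ incl = b := by
    rw [← cancel_mono (lineU K).ι, Category.assoc, hincl, IsOpenImmersion.lift_fac]
  refine ⟨U', h, a', b', ?_, ?_, ?_, ?_, ?_⟩
  · rw [IsOpenImmersion.lift_fac_assoc, Category.assoc, Category.assoc, hL, CommRingCat.ofHom_comp, Spec.map_comp,
      reassoc_of% hφ, ← hincl]
    simp only [Category.assoc]
  · rw [← hincl, Category.assoc, reassoc_of% ha', ha]
  · rw [← hincl, Category.assoc, reassoc_of% hb', hb]
  · rw [← cancel_mono V.ι, Category.assoc, IsOpenImmersion.lift_fac, reassoc_of% ha', haC]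
  · rw [← cancel_mono V.ι, Category.assoc, IsOpenImmersion.lift_fac, reassoc_of% hb', hbC]

/-- The image of a direct link under a morphism. -/
theorem elemLink_map {X Y : Scheme.{u}} {f : X ⟶ Spec (CommRingCat.of k)} {g : Y ⟶ Spec (CommRingCat.of k)}
    (m : X ⟶ Y) (hm : m ≫ g = f) {A B : REq.Pts f K} (hAB : REq.ElemLink f K A B)
    (A' B' : REq.Pts g K) (hA : A.1 ≫ m = A'.1) (hB : B.1 ≫ m = B'.1) : REq.ElemLink g K A' B' := by
  obtain ⟨U, h, a, b, h1, h2, h3, h4, h5⟩ := hAB
  exact ⟨U, h ≫ m, a, b, by rw [Category.assoc, hm, h1], h2, h3,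
    by rw [← Category.assoc, h4, hA], by rw [← Category.assoc, h5, hB]⟩

/-- Two points of an open subscheme of affine space are directly linked. -/
theorem elemLink_affineSpace {m : ℕ}
    (V : (Spec (CommRingCat.of (MvPolynomial (Fin m) k))).Opens)
    (A B : REq.Pts (V.ι ≫ Spec.map (CommRingCat.ofHom (algebraMap k (MvPolynomial (Fin m) k)))) K) :
    REq.ElemLink (V.ι ≫ Spec.map (CommRingCat.ofHom (algebraMap k (MvPolynomial (Fin m) k)))) K A B := by
  have hrep : ∀ A : REq.Pts (V.ι ≫ Spec.map (CommRingCat.ofHom (algebraMap k (MvPolynomial (Fin m) k)))) K,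
      ∃ c : Fin m → K, Spec.map (CommRingCat.ofHom (MvPolynomial.eval₂Hom (algebraMap k K) c)) = A.1 ≫ V.ι := by
    intro A
    obtain ⟨g, hg⟩ : ∃ g, Spec.map g = A.1 ≫ V.ι := ⟨_, Spec.map_preimage _⟩
    refine ⟨fun i => g.hom (MvPolynomial.X i), ?_⟩
    have h := A.2
    rw [← Category.assoc, ← hg, REq.specMap, ← Spec.map_comp] at h
    have hgC := congrArg CommRingCat.Hom.hom (Spec.map_injective h)
    rw [← hg]
    congr 1
    refine CommRingCat.hom_ext (MvPolynomial.ringHom_ext (fun a => ?_) fun i => ?_)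
    · exact (MvPolynomial.eval₂Hom_C _ _ a).trans (RingHom.congr_fun hgC a).symm
    · exact MvPolynomial.eval₂Hom_X' _ _ i
  obtain ⟨c, hc⟩ := hrep A
  obtain ⟨d, hd⟩ := hrep B
  let ℓ := MvPolynomial.eval₂Hom (Polynomial.C.comp (algebraMap k K))
    fun i => (1 - Polynomial.X) * Polynomial.C (c i) + Polynomial.X * Polynomial.C (d i)
  refine elemLink_of_line _ V (Spec.map (CommRingCat.ofHom ℓ)) ?_ A B ?_ ?_
  · rw [← Spec.map_comp, ← CommRingCat.ofHom_comp]
    congr 2
    exact RingHom.ext fun a => MvPolynomial.eval₂Hom_C _ _ a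
  all_goals
    first | rw [← hc] | rw [← hd]
    rw [← Spec.map_comp, ← CommRingCat.ofHom_comp]
    congr 2
    exact MvPolynomial.ringHom_ext (fun a => by simp [ℓ]) fun i => by simp [ℓ]

/-- Two points of an open subscheme of projective space are directly linked. -/
theorem elemLink_projSpace {n : ℕ} (V : (CohB1.ProjSpaceOver n (Spec (CommRingCat.of k))).Opens)
    (A B : REq.Pts (V.ι ≫ CohB1.ProjSpaceOver.toBase n (Spec (CommRingCat.of k))) K) :
    REq.ElemLink (V.ι ≫ CohB1.ProjSpaceOver.toBase n (Spec (CommRingCat.of k))) K A B := by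
  let pr : CohB1.ProjSpaceOver n (Spec (CommRingCat.of k)) ⟶ CohB1.ProjSpace n RZ.{u} := pullback.fst _ _
  obtain ⟨i, a, hai, ha⟩ := exists_ptS (A.1 ≫ V.ι ≫ pr)
  obtain ⟨j, b, hbj, hb⟩ := exists_ptS (B.1 ≫ V.ι ≫ pr)
  obtain ⟨x, hxd, a', b', ha', hax, hb', hbx⟩ : ∃ (x : MvPolynomial (Fin (n + 1)) RZ.{u})
      (hxd : x ∈ CohB1.polyGrading n RZ.{u} 1) (a' b' : Fin (n + 1) → K)
      (ha' : evalTuple a' x = 1) (_ : A.1 ≫ V.ι ≫ pr = ptS (evalTuple a') x hxd (by rw [ha']; exact isUnit_one))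
      (hb' : evalTuple b' x = 1), B.1 ≫ V.ι ≫ pr = ptS (evalTuple b') x hxd (by rw [hb']; exact isUnit_one) := by
    by_cases h1 : b i = 0
    · by_cases h2 : a j = 0
      · have h3 : ∀ r : Fin (n + 1) → K, evalTuple r (MvPolynomial.X i + MvPolynomial.X j) = r i + r j :=
          fun r => by simp
        refine ⟨_, add_mem (X_mem_one i) (X_mem_one j), a, b, by rw [h3, hai, h2, add_zero], ?_,
          by rw [h3, hbj, h1, zero_add], ?_⟩
        · exact ha.trans (ptS_change _ _ _ _ _)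
        · exact hb.trans (ptS_change _ _ _ _ _)
      · refine ⟨MvPolynomial.X j, X_mem_one j, fun z => (a j)⁻¹ * a z, b, by simp [h2], ?_, by simp [hbj], hb⟩
        refine ha.trans ((ptS_change _ _ (X_mem_one j) _ (by simp [h2])).trans ?_)
        exact (ptS_smul a (a j)⁻¹ (X_mem_one j) (by simp [h2]) (by simp [h2])).symm
    · refine ⟨MvPolynomial.X i, X_mem_one i, a, fun z => (b i)⁻¹ * b z, by simp [hai], ha, by simp [h1], ?_⟩
      refine hb.trans ((ptS_change _ _ (X_mem_one i) _ (by simp [h1])).trans ?_)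
      exact (ptS_smul b (b i)⁻¹ (X_mem_one i) (by simp [h1]) (by simp [h1])).symm
  let T : Polynomial K := Polynomial.X
  let fl : MvPolynomial (Fin (n + 1)) RZ.{u} →+* Polynomial K :=
    evalTuple fun z => (1 - T) * Polynomial.C (a' z) + T * Polynomial.C (b' z)
  have hfl : fl x = 1 := by
    have key : ∀ y ∈ CohB1.polyGrading n RZ.{u} 1,
        fl y = (1 - T) * Polynomial.C (evalTuple a' y) + T * Polynomial.C (evalTuple b' y) := by
      intro y hy
      refine homogeneous_induction (P := fun m y => m = 1 →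
        fl y = (1 - T) * Polynomial.C (evalTuple a' y) + T * Polynomial.C (evalTuple b' y))
        (fun c h => absurd h zero_ne_one) (fun m p q _ _ hp hq hm => ?_) (fun m p z hp _ hm => ?_) 1 y hy rfl
      · rw [map_add, hp hm, hq hm, map_add, map_add, map_add, map_add]; ring
      · obtain rfl : m = 0 := by omega
        have hp0 : p = MvPolynomial.C (p.coeff 0) := by
          have hh : p.IsHomogeneous 0 := hp
          exact (MvPolynomial.totalDegree_eq_zero_iff_eq_C).1 (Nat.le_zero.1 hh.totalDegree_le)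
        rw [hp0]
        have hc : ∀ r : Fin (n + 1) → K, Polynomial.C (evalTuple r (MvPolynomial.C (p.coeff 0))) =
            fl (MvPolynomial.C (p.coeff 0)) := fun r =>
          RingHom.congr_fun (ringHom_RZ_ext ((Polynomial.C.comp (evalTuple r)).comp MvPolynomial.C)
            (fl.comp MvPolynomial.C)) _
        simp only [map_mul, hc, evalTuple_X, fl]
        ring
    rw [key x hxd, ha', hb']; simp
  let Q := ptS fl x hxd (by rw [hfl]; exact isUnit_one)
  let L : Spec (CommRingCat.of (Polynomial K)) ⟶ CohB1.ProjSpaceOver n (Spec (CommRingCat.of k)) :=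
    pullback.lift Q (Spec.map (CommRingCat.ofHom (Polynomial.C.comp (algebraMap k K))))
      (specULiftZIsTerminal.hom_ext _ _)
  have hend : ∀ (C : REq.Pts (V.ι ≫ CohB1.ProjSpaceOver.toBase n (Spec (CommRingCat.of k))) K) (t : K)
      (r : Fin (n + 1) → K) (hr : evalTuple r x = 1),
      (∀ z, (1 - t) * a' z + t * b' z = r z) →
      C.1 ≫ V.ι ≫ pr = ptS (evalTuple r) x hxd (by rw [hr]; exact isUnit_one) →
      Spec.map (CommRingCat.ofHom (Polynomial.evalRingHom t)) ≫ L = C.1 ≫ V.ι := by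
    intro C t r hr hz hC
    apply pullback.hom_ext
    · rw [Category.assoc, pullback.lift_fst, Category.assoc, hC]
      refine specMap_ptS _ fl x hxd _ _ ?_ _
      rw [show fl = evalTuple _ from rfl, comp_evalTuple]
      congr 1
      funext z
      rw [← hz z]
      simp [T]
      ring
    · rw [Category.assoc, pullback.lift_snd, Category.assoc, ← Spec.map_comp, ← CommRingCat.ofHom_comp]
      refine Eq.trans ?_ C.2.symm
      congr 2
      exact RingHom.ext fun c => Polynomial.eval_C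
  exact elemLink_of_line _ V L (pullback.lift_snd _ _ _) A B
    (hend A 0 a' ha' (fun z => by ring) hax) (hend B 1 b' hb' (fun z => by ring) hbx)

end GrothLib.RLink26
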