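import Groth.Agent.Lib.RLink26.Basic
import Mathlib.Algebra.MvPolynomial.Funext
import Mathlib.AlgebraicGeometry.Properties

/-!
# Retract rational varieties
-/

set_option autoImplicit false
set_option maxHeartbeats 400000
set_option linter.style.haveILetI false
set_option backward.isDefEq.respectTransparency false

universe u

open AlgebraicGeometry CategoryTheory CategoryTheory.Limits

namespace GrothLib.RLink26

variable {k : Type u} [Field k] {X : Scheme.{u}} (f : X ⟶ Spec (CommRingCat.of k))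

/-- A retract rational scheme has a non-empty open subscheme with all its points directly linked. -/
theorem exists_open_elemLink (hX : REq.IsRetractRational f) :
    ∃ (U : X.Opens) (n : ℕ) (V : (Spec (CommRingCat.of (MvPolynomial (Fin n) k))).Opens)
      (b : (V : Scheme.{u}) ⟶ (U : Scheme.{u})),
      (U : Set X).Nonempty ∧ (∃ x, x ∈ V) ∧
      b ≫ U.ι ≫ f = V.ι ≫ Spec.map (CommRingCat.ofHom (algebraMap k (MvPolynomial (Fin n) k))) ∧
      ∀ (K : Type u) [Field K] [Algebra k K] (A B : REq.Pts (U.ι ≫ f) K), REq.ElemLink (U.ι ≫ f) K A B := by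
  obtain ⟨U, n, V, a, b, hU, hab, ha, hb⟩ := hX
  obtain ⟨x, hx⟩ := hU
  refine ⟨U, n, V, b, ⟨x, hx⟩, ⟨_, (a ⟨x, hx⟩).2⟩, hb, fun K _ _ A B => ?_⟩
  let A' : REq.Pts (V.ι ≫ Spec.map (CommRingCat.ofHom (algebraMap k (MvPolynomial (Fin n) k)))) K :=
    ⟨A.1 ≫ a, by rw [Category.assoc, ha]; exact A.2⟩
  let B' : REq.Pts (V.ι ≫ Spec.map (CommRingCat.ofHom (algebraMap k (MvPolynomial (Fin n) k)))) K :=
    ⟨B.1 ≫ a, by rw [Category.assoc, ha]; exact B.2⟩
  exact elemLink_map b hb (elemLink_affineSpace V A' B') A B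
    ((Category.assoc _ _ _).trans ((congrArg (A.1 ≫ ·) hab).trans (Category.comp_id _)))
    ((Category.assoc _ _ _).trans ((congrArg (B.1 ≫ ·) hab).trans (Category.comp_id _)))

/-- A non-empty open subscheme of affine space over an infinite field has a rational point. -/
theorem exists_point [Infinite k] {n : ℕ} (V : (Spec (CommRingCat.of (MvPolynomial (Fin n) k))).Opens)
    (hV : (∃ x, x ∈ V)) (K : Type u) [Field K] [Algebra k K] :
    Nonempty (REq.Pts (V.ι ≫ Spec.map (CommRingCat.ofHom (algebraMap k (MvPolynomial (Fin n) k)))) K) := by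
  obtain ⟨x, hx⟩ := hV
  obtain ⟨_, ⟨s, rfl⟩, hxs, hsV⟩ :=
    PrimeSpectrum.isTopologicalBasis_basic_opens.exists_subset_of_mem_open hx V.2
  have hs : s ≠ 0 := by rintro rfl; exact hxs (Submodule.zero_mem _)
  obtain ⟨c, hc⟩ : ∃ c : Fin n → k, MvPolynomial.eval c s ≠ 0 := by
    by_contra! h
    exact hs (MvPolynomial.funext fun c => by rw [h c, map_zero])
  let g : MvPolynomial (Fin n) k →+* K := (algebraMap k K).comp (MvPolynomial.eval c)
  have hrange : Set.range (Spec.map (CommRingCat.ofHom g)).base ⊆ Set.range V.ι.base := by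
    rintro _ ⟨y, rfl⟩
    rw [Scheme.Opens.range_ι]
    refine hsV ?_
    intro hy
    have hy' : algebraMap k K (MvPolynomial.eval c s) ∈ y.asIdeal := hy
    exact y.2.ne_top (Ideal.eq_top_of_isUnit_mem _ hy' ((isUnit_iff_ne_zero.2 hc).map _))
  refine ⟨⟨IsOpenImmersion.lift V.ι _ hrange, ?_⟩⟩
  rw [IsOpenImmersion.lift_fac_assoc, specMap_comp_specMap]
  exact congrArg (fun h => Spec.map (CommRingCat.ofHom h))
    (RingHom.ext fun a => congrArg (algebraMap k K) (MvPolynomial.eval_C a))

/-- Retract rational varieties over infinite fields are almost R-trivial. -/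
theorem isAlmostRTrivial [Infinite k] [IrreducibleSpace X] (hX : REq.IsRetractRational f) :
    REq.IsAlmostRTrivial f := by
  obtain ⟨U, n, V, b, hU, hV, hb, hlink⟩ := exists_open_elemLink f hX
  refine ⟨U, U.2.dense hU, fun K _ _ => ⟨?_, fun A B hA hB => ?_⟩⟩
  · obtain ⟨p⟩ := exists_point V hV K
    refine ⟨⟨p.1 ≫ b ≫ U.ι, by rw [Category.assoc, Category.assoc, hb]; exact p.2⟩, ?_⟩
    rintro _ ⟨y, rfl⟩
    exact (b (p.1 y)).2
  · have hr : ∀ C : REq.Pts f K, REq.InOpen f U C → Set.range C.1.base ⊆ Set.range U.ι.base := fun C hC => by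
      rw [Scheme.Opens.range_ι]; exact hC
    refine Relation.EqvGen.rel _ _ (elemLink_map U.ι rfl
      (hlink K ⟨IsOpenImmersion.lift U.ι A.1 (hr A hA), ?_⟩ ⟨IsOpenImmersion.lift U.ι B.1 (hr B hB), ?_⟩)
      A B (IsOpenImmersion.lift_fac _ _ _) (IsOpenImmersion.lift_fac _ _ _))
    · rw [IsOpenImmersion.lift_fac_assoc]; exact A.2
    · rw [IsOpenImmersion.lift_fac_assoc]; exact B.2

end GrothLib.RLink26
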